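import Cfsg.Agent.Lib.Golay.SylowTwo
import Cfsg.Agent.Lib.Golay.SylowTwoGroups
import Cfsg.Agent.Lib.Golay.AutBig
import Cfsg.Agent.Lib.Golay.Sextet

/-!
Orbits of a Sylow 2-subgroup of M24 and of a point stabiliser in it, in the form needed to
recognise subgroups of odd index.
-/

set_option autoImplicit false
set_option maxRecDepth 20000

namespace Cfsg.Agent.GroupStructure3.MathieuIndex

open Cfsg Cfsg.Agent.Golay.Basic Cfsg.Agent.Golay.M24 Cfsg.Agent.Golay.Cert
  Cfsg.Agent.Golay.TabList Cfsg.Agent.Golay.SylowTwoData Cfsg.Agent.Golay.SylowTwo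
  Cfsg.Agent.Golay.Trans Cfsg.Agent.Golay.Perm Cfsg.Agent.Golay.Design
open scoped Pointwise

local notation "pG" => Equiv.Perm GolayPt

/-- The Sylow 2-subgroup. -/
noncomputable def T0 : Subgroup pG := tabGroup s24Pc

theorem T0_le : T0 ≤ M24 := tabGroup_le_of fun t ht => by
  have h := s24_list
  simp only [listOK, Bool.and_eq_true, List.all_eq_true] at h
  exact tabPerm_mem (h.1.1.1.1 t ht)

theorem card_T0 : Nat.card T0 = 1024 := by
  rw [T0, card_tabGroup s24_list, show s24Pc.length = 10 by decide +kernel]; rfl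

/-- Image check: an element of the list sends point `i` to `j` and the mask `a` to the mask `b`. -/
def movOK (i j a b : ℕ) : Bool :=
  s24Elems.any fun t => (tabAt t i == j) && (imgTab t a == b)

theorem exists_mov {i j a b : ℕ} (h : movOK i j a b = true) (hi : i < 24) (ha : a < 2 ^ 24) :
    ∃ g ∈ T0, g (pt i) = pt j ∧ g • maskSet a = maskSet b := by
  obtain ⟨hTab, hmem, -⟩ := spec s24_list
  simp only [movOK, List.any_eq_true, Bool.and_eq_true, beq_iff_eq] at h
  obtain ⟨t, ht, h1, h2⟩ := h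
  refine ⟨tabPerm t, (hmem _).2 ⟨t, ht, rfl⟩, ?_, ?_⟩
  · rw [← pt_ix (tabPerm t (pt i)), (hTab t ht).1, ix_pt hi, h1]
  · have := imgTab_mask (hTab t ht).1 (maskSet a)
    rw [mask_maskSet ha, h2] at this
    rw [this, maskSet_mask]

/-- Mask of the invariant octad. -/
def oM : ℕ := 11010247
/-- Mask of the invariant tetrad. -/
def kM : ℕ := 8388615
/-- Mask of the other tetrad of the octad. -/
def qM : ℕ := 2621632

/-- The invariant octad. -/
def oSet : Finset GolayPt := maskSet oM
/-- The base tetrad. -/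
def kSet : Finset GolayPt := maskSet kM
/-- The other tetrad. -/
def qSet : Finset GolayPt := maskSet qM
/-- The base point. -/
def a0 : GolayPt := pt 0

theorem oSet_mem : oSet ∈ octads := maskSet_mem_octads (by decide +kernel)

theorem oSet_card : oSet.card = 8 := octad_card oSet_mem

theorem shapes : kSet.card = 4 ∧ qSet.card = 4 ∧ Disjoint kSet qSet ∧ kSet ∪ qSet = oSet ∧
    a0 ∈ kSet ∧ a0 ∈ oSet ∧ pt 6 ∈ qSet ∧ pt 3 ∉ oSet ∧ pt 6 ∉ kSet := by
  decide +kernel

theorem mov_oSet_check : (List.range 24).all (fun j =>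
    !oM.testBit j || movOK 0 j oM oM) = true := by decide +kernel

theorem mov_kSet_check : (List.range 24).all (fun j =>
    !kM.testBit j || movOK 0 j kM kM) = true := by decide +kernel

theorem mov_oSet {x : GolayPt} (hx : x ∈ oSet) : ∃ g ∈ T0, g a0 = x ∧ g • oSet = oSet := by
  have h := List.all_eq_true.1 mov_oSet_check (ix x) (List.mem_range.2 (ix_lt x))
  rw [show oM.testBit (ix x) = true from (Finset.mem_filter.1 hx).2] at h
  obtain ⟨g, hg, h1, h2⟩ := exists_mov (by simpa using h) (by norm_num) (by decide)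
  exact ⟨g, hg, by rw [a0, h1, pt_ix], h2⟩

theorem mov_kSet {x : GolayPt} (hx : x ∈ kSet) : ∃ g ∈ T0, g a0 = x ∧ g • kSet = kSet := by
  have h := List.all_eq_true.1 mov_kSet_check (ix x) (List.mem_range.2 (ix_lt x))
  rw [show kM.testBit (ix x) = true from (Finset.mem_filter.1 hx).2] at h
  obtain ⟨g, hg, h1, h2⟩ := exists_mov (by simpa using h) (by norm_num) (by decide)
  exact ⟨g, hg, by rw [a0, h1, pt_ix], h2⟩

theorem mov_q : ∃ g ∈ T0, g a0 = pt 6 ∧ g • kSet = qSet :=
  exists_mov (i := 0) (j := 6) (a := kM) (b := qM) (by decide +kernel) (by norm_num) (by decide)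

theorem mov_pair : ∃ g ∈ T0, g a0 = pt 1 ∧ g • ({pt 1, pt 2} : Finset GolayPt) = {pt 0, pt 23} := by
  obtain ⟨g, hg, h1, h2⟩ := exists_mov (i := 0) (j := 1) (a := 6) (b := 8388609)
    (by decide +kernel) (by norm_num) (by decide)
  refine ⟨g, hg, h1, ?_⟩
  rwa [show maskSet 6 = ({pt 1, pt 2} : Finset GolayPt) by decide +kernel,
    show maskSet 8388609 = ({pt 0, pt 23} : Finset GolayPt) by decide +kernel] at h2

/-! ### Invariant sets -/

/-- Exponent of the orbit of an index. -/
def cls (i : ℕ) : ℕ :=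
  if i = 23 then 0 else if i = 1 ∨ i = 2 then 1 else if i = 6 ∨ i = 7 ∨ i = 19 ∨ i = 21 then 2 else 4

/-- Representative of an orbit. -/
def rep (c : ℕ) : ℕ := if c = 0 then 23 else if c = 1 then 1 else if c = 2 then 6 else 3

/-- The canonical invariant set with `k` elements. -/
def canon (k : ℕ) : Finset GolayPt :=
  Finset.univ.filter fun p => ix p ≠ 0 ∧ k.testBit (cls (ix p)) = true

theorem cls_check : (List.range 24).all (fun i =>
    i == 0 || movOK (rep (cls i)) i 1 1) = true := by decide +kernel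

theorem cls_cases : ∀ i < 24, cls i = 0 ∨ cls i = 1 ∨ cls i = 2 ∨ cls i = 4 := by decide +kernel

theorem canon_card : ∀ b₀ b₁ b₂ b₄ : Bool,
    let k := (if b₀ then 1 else 0) + (if b₁ then 2 else 0) + (if b₂ then 4 else 0) +
      (if b₄ then 16 else 0)
    (canon k).card = k ∧ k.testBit 0 = b₀ ∧ k.testBit 1 = b₁ ∧ k.testBit 2 = b₂ ∧
      k.testBit 4 = b₄ ∧ k.testBit 3 = false ∧ k < 24 := by
  decide +kernel

/-- A set avoiding the base point, invariant under its stabiliser, is determined by its size. -/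
theorem eq_canon {S : Finset GolayPt} (ha : a0 ∉ S) (h : ∀ g ∈ T0, g a0 = a0 → g • S = S) :
    S = canon S.card ∧ S.card.testBit 3 = false := by
  have hrep : ∀ p : GolayPt, p ≠ a0 → (p ∈ S ↔ pt (rep (cls (ix p))) ∈ S) := by
    intro p hp
    have hc := List.all_eq_true.1 cls_check (ix p) (List.mem_range.2 (ix_lt p))
    have hne : ix p ≠ 0 := fun e => hp (by rw [a0, ← e, pt_ix])
    simp only [Bool.or_eq_true, beq_iff_eq, hne, false_or] at hc
    have hr : rep (cls (ix p)) < 24 := by unfold rep; split_ifs <;> omega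
    obtain ⟨g, hg, h1, h2⟩ := exists_mov hc hr (by decide)
    have hfix : g a0 = a0 := by
      have : g a0 ∈ g • maskSet 1 := Finset.smul_mem_smul_finset (by decide +kernel)
      rw [h2, show maskSet 1 = {a0} by decide +kernel, Finset.mem_singleton] at this
      exact this
    rw [pt_ix] at h1
    have hm := mem_smul_iff g S (pt (rep (cls (ix p))))
    rw [h g hg hfix, h1] at hm
    exact hm
  have key := canon_card (decide (pt 23 ∈ S)) (decide (pt 1 ∈ S)) (decide (pt 6 ∈ S))
    (decide (pt 3 ∈ S))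
  dsimp only at key
  generalize hk : (if decide (pt 23 ∈ S) then 1 else 0) + (if decide (pt 1 ∈ S) then 2 else 0) +
      (if decide (pt 6 ∈ S) then 4 else 0) + (if decide (pt 3 ∈ S) then 16 else 0) = k at key
  obtain ⟨hcard, h0, h1, h2, h4, h3, -⟩ := key
  have hS : S = canon k := by
    ext p
    by_cases hp : p = a0
    · subst hp
      exact iff_of_false ha (by simp [canon, a0, ix_pt (show 0 < 24 by norm_num)])
    · have hne : ix p ≠ 0 := fun e => hp (by rw [a0, ← e, pt_ix])
      rw [hrep p hp]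
      simp only [canon, Finset.mem_filter, Finset.mem_univ, true_and, ne_eq, hne, not_false_eq_true]
      rcases cls_cases (ix p) (ix_lt p) with e | e | e | e <;> rw [e] <;>
        simp [rep, h0, h1, h2, h4]
  rw [hS, hcard]
  exact ⟨rfl, h3⟩

theorem canon_facts : canon 2 = {pt 1, pt 2} ∧ canon 3 = kSet.erase a0 ∧
    canon 7 = oSet.erase a0 ∧ canon 20 = Finset.univ \ kSet ∧ pt 6 ∈ canon 20 ∧
    pt 1 ∈ canon 18 ∧ canon 16 = Finset.univ \ oSet ∧ (canon 5).card = 5 := by
  decide +kernel

end Cfsg.Agent.GroupStructure3.MathieuIndex
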