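import Mathlib
import Cfsg.Agent.GroupStructure3.MathieuIndex.Sylow
import Cfsg.Agent.GroupStructure3.MathieuSub.FixLemmas
import Cfsg.Agent.Lib.Golay.FixedOctad
import Cfsg.Agent.Lib.Golay.Suborbits

/-!
A subgroup of M24 containing a Sylow 2-subgroup, of order divisible by 5 and large enough, fixes an
octad or a sextet.
-/

set_option autoImplicit false
set_option maxRecDepth 20000

namespace Cfsg.Agent.GroupStructure3.MathieuIndex

open Cfsg Cfsg.Agent.Golay.Basic Cfsg.Agent.Golay.M24 Cfsg.Agent.Golay.Trans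
  Cfsg.Agent.Golay.Perm Cfsg.Agent.Golay.Design Cfsg.Agent.Golay.AutBig
open MathieuSub (fixF mem_fixF orderOf_dvd_of_fix)
open scoped Pointwise

local notation "pG" => Equiv.Perm GolayPt

theorem canon_facts' : (∀ m < 24, 16 ≤ m → Finset.univ \ oSet ⊆ canon m) ∧
    (∀ k < 24, k.testBit 3 = false → pt 3 ∈ canon k → 16 ≤ k) ∧ pt 1 ∈ oSet ∧
    canon 20 = Finset.univ \ kSet ∧ ({pt 1, pt 2} : Finset GolayPt).card = 2 ∧
    [a0, pt 1, pt 2, pt 23].Nodup ∧ oSet.erase a0 = canon 7 ∧ pt 3 ∉ oSet := by
  decide +kernel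

/-- The orbit of a point: its size divides the order. -/
theorem orbit_set_dvd {H : Subgroup pG} {p : GolayPt} {S : Finset GolayPt} (hp : p ∈ S)
    (hS : ∀ g ∈ H, g • S = S) (horb : ∀ x ∈ S, ∃ g ∈ H, g p = x) :
    S.card * Nat.card (MulAction.stabilizer H p) = Nat.card H := by
  have e : MulAction.orbit H p = (S : Set GolayPt) := by
    ext x
    constructor
    · rintro ⟨g, rfl⟩
      rw [Finset.mem_coe, ← hS g g.2]
      exact (mem_smul_iff _ _ _).2 hp
    · intro hx
      obtain ⟨g, hg, rfl⟩ := horb x hx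
      exact ⟨⟨g, hg⟩, rfl⟩
  rw [← Subgroup.index_mul_card (MulAction.stabilizer H p), MulAction.index_stabilizer, e,
    Set.ncard_coe_finset]

variable {H : Subgroup pG}

/-- A block system from a set stabilised by a point stabiliser and transported by `T0`. -/
theorem translates (hT : T0 ≤ H) {K : Finset GolayPt}
    (hmov : ∀ x ∈ K, ∃ t ∈ T0, t a0 = x ∧ t • K = K)
    (hL : ∀ g ∈ H, g a0 = a0 → g • K = K) {h h' : pG} (hh : h ∈ H) (hh' : h' ∈ H) {z : GolayPt}
    (hz : z ∈ h • K) (hz' : z ∈ h' • K) : h • K = h' • K := by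
  obtain ⟨x, hx, rfl⟩ := Finset.mem_smul_finset.1 hz
  obtain ⟨y, hy, hyx⟩ := Finset.mem_smul_finset.1 hz'
  obtain ⟨t, ht, htx, htK⟩ := hmov x hx
  obtain ⟨u, hu, huy, huK⟩ := hmov y hy
  have hfix : ((h' * u)⁻¹ * (h * t)) a0 = a0 := by
    rw [Equiv.Perm.mul_apply, Equiv.Perm.inv_eq_iff_eq, Equiv.Perm.mul_apply, Equiv.Perm.mul_apply,
      htx, huy]
    exact hyx.symm
  have hm : (h' * u)⁻¹ * (h * t) ∈ H :=
    H.mul_mem (H.inv_mem (H.mul_mem hh' (hT hu))) (H.mul_mem hh (hT ht))
  have hK := hL _ hm hfix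
  rw [mul_smul, inv_smul_eq_iff, mul_smul, mul_smul, htK, huK] at hK
  exact hK

variable (hH : H ≤ M24) (hT : T0 ≤ H) (htr : ∀ z : GolayPt, ∃ h ∈ H, h a0 = z)
include hH hT htr

/-- A transitive group with such a partition into three octads has order prime to five. -/
theorem no_trio (h5 : 5 ∣ Nat.card H) (hL : ∀ g ∈ H, g a0 = a0 → g • oSet = oSet) : False := by
  classical
  haveI : Fact (Nat.Prime 5) := ⟨by norm_num⟩
  obtain ⟨g, hg⟩ := exists_prime_orderOf_dvd_card' 5 h5
  have hg5 : orderOf (g : pG) = 5 := by rw [Subgroup.orderOf_coe, hg]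
  have hgpow : (g : pG) ^ 5 = 1 := by rw [← hg5]; exact pow_orderOf_eq_one _
  -- every translate is fixed
  have hfix : ∀ h ∈ H, (g : pG) • (h • oSet) = h • oSet := by
    intro h hh
    by_contra hne
    have hdis : ∀ i j : Fin 5, i ≠ j →
        Disjoint (((g : pG) ^ (i : ℕ)) • (h • oSet)) (((g : pG) ^ (j : ℕ)) • (h • oSet)) := by
      intro i j hij
      rw [Finset.disjoint_left]
      intro z hz hz'
      rw [← mul_smul] at hz hz'
      have e := translates hT (fun _ => mov_oSet) hL (H.mul_mem (H.pow_mem g.2 _) hh)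
        (H.mul_mem (H.pow_mem g.2 _) hh) hz hz'
      rw [mul_smul, mul_smul] at e
      -- the stabiliser of the translate would contain a non-trivial power
      let M := MulAction.stabilizer pG (h • oSet)
      have hpow : ∀ i j : ℕ, i < j → j < 5 →
          (g : pG) ^ i • (h • oSet) = (g : pG) ^ j • (h • oSet) → False := by
        intro i j hlt hj he
        have hmem : (g : pG) ^ (j - i) ∈ M := by
          show (g : pG) ^ (j - i) • (h • oSet) = h • oSet
          rw [show (g : pG) ^ j = (g : pG) ^ i * (g : pG) ^ (j - i) by rw [← pow_add]; congr 1; omega,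
            mul_smul] at he
          exact (MulAction.injective _ he).symm
        have hgM : (g : pG) ∈ M := by
          have hco : Nat.Coprime (j - i) 5 :=
            ((by norm_num : Nat.Prime 5).coprime_iff_not_dvd.2
              (fun hd => by have := Nat.le_of_dvd (by omega) hd; omega)).symm
          obtain ⟨m, hm⟩ := exists_pow_eq_self_of_coprime (by rw [hg5]; exact hco)
          rw [← hm]
          exact M.pow_mem hmem m
        exact hne hgM
      rcases lt_trichotomy (i : ℕ) j with hlt | heq | hlt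
      · exact hpow i j hlt j.2 e
      · exact hij (Fin.ext heq)
      · exact hpow j i hlt i.2 e.symm
    have hc := Finset.card_biUnion (s := (Finset.univ : Finset (Fin 5)))
      (t := fun i => ((g : pG) ^ (i : ℕ)) • (h • oSet)) fun i _ j _ hij => hdis i j hij
    have hle := Finset.card_le_univ ((Finset.univ : Finset (Fin 5)).biUnion
      fun i => ((g : pG) ^ (i : ℕ)) • (h • oSet))
    rw [hc] at hle
    simp [Finset.card_smul_finset, oSet_card, Cfsg.Agent.Golay.Sextet.card_pts] at hle
  -- at least three fixed points in each translate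
  have h3 : ∀ h ∈ H, 3 ≤ ((h • oSet).filter fun x => (g : pG) x = x).card := by
    intro h hh
    let f : Equiv.Perm ↥(h • oSet) := (g : pG).subtypePerm fun x => by
      have hm := mem_smul_iff (g : pG) (h • oSet) x
      rw [hfix h hh] at hm
      exact hm
    have hf : f ^ 5 ^ 1 = 1 := by
      rw [pow_one]
      refine Equiv.ext fun x => Subtype.ext ?_
      rw [Equiv.Perm.subtypePerm_pow, Equiv.Perm.one_apply]
      show ((g : pG) ^ 5) (x : GolayPt) = x
      rw [hgpow]; rfl
    have hmod := Equiv.Perm.card_compl_support_modEq hf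
    rw [Fintype.card_coe, Finset.card_smul_finset, oSet_card] at hmod
    have hcard : f.supportᶜ.card ≤ ((h • oSet).filter fun x => (g : pG) x = x).card := by
      refine Finset.card_le_card_of_injOn Subtype.val (fun x hx => ?_) Subtype.val_injective.injOn
      rw [Finset.mem_coe, Finset.mem_compl, Equiv.Perm.mem_support, not_not] at hx
      exact Finset.mem_filter.2 ⟨x.2, congrArg Subtype.val hx⟩
    have : f.supportᶜ.card % 5 = 3 := hmod
    omega
  obtain ⟨h1, hh1, h1z⟩ := htr (pt 3)
  have hdis : Disjoint oSet (h1 • oSet) := by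
    rw [Finset.disjoint_left]
    intro z hz hz'
    have e := translates hT (fun _ => mov_oSet) hL H.one_mem hh1 (by rw [one_smul]; exact hz) hz'
    rw [one_smul] at e
    refine canon_facts'.2.2.2.2.2.2.2 ?_
    rw [e, ← h1z]
    exact Finset.smul_mem_smul_finset shapes.2.2.2.2.2.1
  have hsub : (oSet.filter fun x => (g : pG) x = x) ∪
      ((h1 • oSet).filter fun x => (g : pG) x = x) ⊆ fixF (g : pG) := by
    intro x hx
    rw [mem_fixF]
    rcases Finset.mem_union.1 hx with hx | hx <;> exact (Finset.mem_filter.1 hx).2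
  have hge := Finset.card_le_card hsub
  rw [Finset.card_union_of_disjoint (hdis.mono (Finset.filter_subset _ _) (Finset.filter_subset _ _))]
    at hge
  have hA := h3 1 H.one_mem
  rw [one_smul] at hA
  have hB := h3 h1 hh1
  have hd := orderOf_dvd_of_fix (hH g.2) (by omega)
  rw [hg5] at hd
  norm_num at hd

/-- A transitive group with the partition into tetrads fixes a sextet. -/
theorem fixes_sextet (hL : ∀ g ∈ H, g a0 = a0 → g • kSet = kSet)
    (hS : ∀ z, z ∉ kSet → ∃ g ∈ H, g a0 = a0 ∧ g (pt 6) = z) :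
    ∃ S ∈ sextets, ∀ h ∈ H, h • S = S := by
  classical
  obtain ⟨hk4, hq4, hkq, hunion, ha0K, -, h6, -, h6K⟩ := shapes
  refine ⟨Golay.Sextet.sextetOf kSet, Golay.Sextet.sextetOf_mem hk4, ?_⟩
  obtain ⟨t, ht, -, htK⟩ := mov_q
  have hall : ∀ h ∈ H, h • kSet ∈ Golay.Sextet.sextetOf kSet := by
    intro h hh
    rw [Golay.Sextet.mem_sextetOf]
    by_cases he : h • kSet = kSet
    · exact Or.inl he
    refine Or.inr ?_
    have hz : h a0 ∈ h • kSet := Finset.smul_mem_smul_finset ha0K
    have hzK : h a0 ∉ kSet := fun hc => he ((translates hT (fun _ => mov_kSet) hL hh H.one_mem hz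
      (by rw [one_smul]; exact hc)).trans (one_smul _ _))
    obtain ⟨g, hg, hga, hgz⟩ := hS _ hzK
    have hz' : h a0 ∈ (g * t) • kSet := by
      rw [mul_smul, htK, ← hgz]
      exact Finset.smul_mem_smul_finset h6
    have e := translates hT (fun _ => mov_kSet) hL hh (H.mul_mem hg (hT ht)) hz hz'
    rw [mul_smul, htK] at e
    refine ⟨g • oSet, smul_mem_octads (hH hg) oSet_mem, ?_, ?_⟩
    · conv_lhs => rw [← hL g hg hga]
      exact Finset.smul_finset_subset_smul_finset (hunion ▸ Finset.subset_union_left)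
    · rw [e]
      conv_lhs => rw [← hL g hg hga, ← hunion, Finset.smul_finset_union]
      exact Finset.union_sdiff_cancel_left
        ((Finset.disjoint_image (MulAction.injective g)).2 hkq)
  intro h hh
  have h1 := Golay.Suborbits.smul_mem_sextets (hH hh) (Golay.Sextet.sextetOf_mem hk4)
  have hmem : h • kSet ∈ h • Golay.Sextet.sextetOf kSet :=
    Finset.smul_mem_smul_finset (Golay.Sextet.mem_sextetOf.2 (Or.inl rfl))
  rw [Golay.Sextet.eq_sextetOf h1 hmem,
    ← Golay.Sextet.eq_sextetOf (Golay.Sextet.sextetOf_mem hk4) (hall h hh)]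

omit htr in
/-- The dichotomy. -/
theorem octad_or_sextet (h5 : 5 ∣ Nat.card H)
    (hnd : ∀ n ∈ [17, 19, 22, 23], ¬ n ∣ Nat.card H) (hbig : 24 * 1921 ≤ Nat.card H) :
    (∀ h ∈ H, h • oSet = oSet) ∨ ∃ S ∈ sextets, ∀ h ∈ H, h • S = S := by
  classical
  obtain ⟨hsup, h16, hp1, hc20, hpair, hnd4, hc7, hp3⟩ := canon_facts'
  obtain ⟨S0, ha0S, hS0, horb0⟩ := exists_orbit_set (H := H) a0
  have hoS : oSet ⊆ S0 := fun x hx => by
    obtain ⟨t, ht, e, -⟩ := mov_oSet hx
    rw [← e, ← hS0 t (hT ht)]
    exact (mem_smul_iff _ _ _).2 ha0S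
  by_cases htop : S0 = Finset.univ
  swap
  · refine Or.inl fun h hh => ?_
    suffices e : S0 = oSet by rw [← e]; exact hS0 h hh
    refine Finset.Subset.antisymm ?_ hoS
    obtain ⟨hcan, hb3⟩ := eq_canon (S := S0.erase a0) (Finset.notMem_erase _ _) fun g hg hga => by
      rw [Finset.erase_eq, Finset.smul_finset_sdiff, hS0 g (hT hg), Finset.smul_finset_singleton,
        Equiv.Perm.smul_def, hga]
    have hlt : (S0.erase a0).card < 24 := by
      rw [Finset.card_erase_of_mem ha0S]
      have := Finset.card_le_univ S0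
      rw [Cfsg.Agent.Golay.Sextet.card_pts] at this
      omega
    by_contra hne
    obtain ⟨p, hp, hpo⟩ := Finset.not_subset.1 hne
    have hpa : p ≠ a0 := fun e => hpo (e ▸ shapes.2.2.2.2.2.1)
    have hm : 16 ≤ (S0.erase a0).card := by
      by_contra hm
      have h7 : (S0.erase a0).card = 7 := by
        have hge := Finset.card_le_card (Finset.erase_subset_erase a0 hoS)
        rw [Finset.card_erase_of_mem shapes.2.2.2.2.2.1, oSet_card] at hge
        have key : ∀ m < 16, 7 ≤ m → m.testBit 3 = false → m = 7 := by decide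
        exact key _ (by omega) hge hb3
      rw [h7, ← hc7] at hcan
      exact hpo (Finset.mem_of_mem_erase (hcan ▸ Finset.mem_erase.2 ⟨hpa, hp⟩))
    refine htop (Finset.eq_univ_of_forall fun z => ?_)
    by_cases hz : z ∈ oSet
    · exact hoS hz
    · have hz' : z ∈ Finset.univ \ oSet := by simp [hz]
      have := hsup _ hlt hm hz'
      rw [← hcan] at this
      exact Finset.mem_of_mem_erase this
  have htr : ∀ z : GolayPt, ∃ h ∈ H, h a0 = z := fun z => horb0 z (htop ▸ Finset.mem_univ z)
  let L : Subgroup pG := fixers H [a0]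
  have hLmem : ∀ {g : pG}, g ∈ L ↔ g ∈ H ∧ g a0 = a0 := by simp [L, mem_fixers]
  have hcardL : 24 * Nat.card L = Nat.card H := by
    have h := orbit_set_dvd ha0S hS0 horb0
    rw [htop, Finset.card_univ, Cfsg.Agent.Golay.Sextet.card_pts] at h
    rw [← h]
    congr 1
    exact Nat.card_congr ⟨fun g => ⟨⟨g, (hLmem.1 g.2).1⟩, (hLmem.1 g.2).2⟩,
      fun g => ⟨g.1, hLmem.2 ⟨g.1.2, g.2⟩⟩, fun g => rfl, fun g => rfl⟩
  obtain ⟨S, h3S, hS, horb⟩ := exists_orbit_set (H := L) (pt 3)
  have haS : a0 ∉ S := fun ha => by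
    obtain ⟨g, hg, e⟩ := horb a0 ha
    have := g.injective (e.trans (hLmem.1 hg).2.symm)
    exact hp3 (this ▸ shapes.2.2.2.2.2.1)
  obtain ⟨hcan, hb3⟩ := eq_canon haS fun g hg hga => hS g (hLmem.2 ⟨hT hg, hga⟩)
  have hk23 : S.card < 24 := by
    have := Finset.card_lt_univ_of_notMem haS
    rwa [Cfsg.Agent.Golay.Sextet.card_pts] at this
  have hk16 : 16 ≤ S.card := h16 _ hk23 hb3 (hcan ▸ h3S)
  have hdvd : S.card ∣ Nat.card H :=
    (Dvd.intro _ (orbit_set_dvd h3S hS horb)).trans (hcardL ▸ Dvd.intro_left _ rfl)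
  have hLfix : ∀ (K : Finset GolayPt), (∀ g ∈ L, g • K = K) → ∀ g ∈ H, g a0 = a0 → g • K = K :=
    fun K hK g hg hga => hK g (hLmem.2 ⟨hg, hga⟩)
  have huniv : ∀ g : pG, g • (Finset.univ : Finset GolayPt) = Finset.univ := fun g => by simp
  have hcompl : ∀ K : Finset GolayPt, canon S.card = Finset.univ \ K → ∀ g ∈ L, g • K = K := by
    intro K hK g hg
    have h := hS g hg
    rw [hcan, hK, Finset.smul_finset_sdiff, huniv] at h
    simpa using congrArg (fun X => Finset.univ \ X) h
  have hcases : S.card = 16 ∨ S.card = 18 ∨ S.card = 20 ∨ S.card = 21 := by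
    have a17 := hnd 17 (by simp); have a19 := hnd 19 (by simp)
    have a22 := hnd 22 (by simp); have a23 := hnd 23 (by simp)
    rcases (show S.card = 16 ∨ S.card = 17 ∨ S.card = 18 ∨ S.card = 19 ∨ S.card = 20 ∨ S.card = 21 ∨
      S.card = 22 ∨ S.card = 23 by omega) with e | e | e | e | e | e | e | e
    · exact Or.inl e
    · exact absurd (e ▸ hdvd) a17
    · exact Or.inr (Or.inl e)
    · exact absurd (e ▸ hdvd) a19
    · exact Or.inr (Or.inr (Or.inl e))
    · exact Or.inr (Or.inr (Or.inr e))
    · exact absurd (e ▸ hdvd) a22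
    · exact absurd (e ▸ hdvd) a23
  rcases hcases with e | e | e | e
  · exact (no_trio hH hT htr h5 (hLfix _ (hcompl oSet (by rw [e, canon_facts.2.2.2.2.2.2.1])))).elim
  · exfalso
    let W := (Finset.univ \ S).erase a0
    have hW5 : W.card = 5 := by
      rw [Finset.card_erase_of_mem (by simp [haS]), Finset.card_sdiff_of_subset (Finset.subset_univ _),
        Finset.card_univ, Cfsg.Agent.Golay.Sextet.card_pts, e]
    obtain ⟨o, ho, ho5⟩ := Golay.FixedOctad.exists_octad_ge (s := W) hW5.ge
    have hWo : W ⊆ o := Finset.inter_eq_left.1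
      (Finset.eq_of_subset_of_card_le Finset.inter_subset_left (by omega))
    have hWfix : ∀ g ∈ L, g • W = W := fun g hg => by
      simp only [W, Finset.erase_eq, Finset.smul_finset_sdiff, huniv, hS g hg,
        Finset.smul_finset_singleton, Equiv.Perm.smul_def, (hLmem.1 hg).2]
    have hofix : ∀ g ∈ L, g • o = o := fun g hg =>
      octads_eq_of_subset hW5.ge (smul_mem_octads (hH (hLmem.1 hg).1) ho) ho
        (by rw [← hWfix g hg]; exact Finset.smul_finset_subset_smul_finset hWo) hWo
    obtain ⟨hoc, hob⟩ := eq_canon (S := o.erase a0) (Finset.notMem_erase _ _) fun g hg hga => by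
      rw [Finset.erase_eq, Finset.smul_finset_sdiff, hofix g (hLmem.2 ⟨hT hg, hga⟩),
        Finset.smul_finset_singleton, Equiv.Perm.smul_def, hga]
    have hao : a0 ∈ o := by
      by_contra hao
      rw [Finset.erase_eq_of_notMem hao, octad_card ho] at hob
      revert hob
      decide
    rw [Finset.card_erase_of_mem hao, octad_card ho, ← hc7] at hoc
    have hoeq : o = oSet := by
      rw [← Finset.insert_erase hao, hoc, Finset.insert_erase shapes.2.2.2.2.2.1]
    have h1S : pt 1 ∈ S := by rw [hcan, e]; exact canon_facts.2.2.2.2.2.1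
    obtain ⟨g, hg, hg3⟩ := horb _ h1S
    have hm := (mem_smul_iff g oSet (pt 3)).1
    rw [← hoeq, hofix g hg, hg3, hoeq] at hm
    exact hp3 (hm hp1)
  · refine Or.inr (fixes_sextet hH hT htr (hLfix _ (hcompl kSet (by rw [e, hc20]))) fun z hz => ?_)
    have hzS : z ∈ S := by rw [hcan, e, hc20]; simp [hz]
    obtain ⟨g1, hg1, e1⟩ := horb (pt 6) (by rw [hcan, e]; exact canon_facts.2.2.2.2.1)
    obtain ⟨g2, hg2, e2⟩ := horb z hzS
    have hm := L.mul_mem hg2 (L.inv_mem hg1)
    exact ⟨_, (hLmem.1 hm).1, (hLmem.1 hm).2, by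
      rw [Equiv.Perm.mul_apply, ← e1, Equiv.Perm.inv_def, Equiv.symm_apply_apply, e2]⟩
  · exfalso
    have hPfix : ∀ g ∈ L, g • ({pt 1, pt 2} : Finset GolayPt) = {pt 1, pt 2} := by
      have hP : (Finset.univ \ S).erase a0 = ({pt 1, pt 2} : Finset GolayPt) := by
        rw [hcan, e]; decide +kernel
      intro g hg
      rw [← hP]
      simp only [Finset.erase_eq, Finset.smul_finset_sdiff, huniv, hS g hg,
        Finset.smul_finset_singleton, Equiv.Perm.smul_def, (hLmem.1 hg).2]
    obtain ⟨t, ht, hta, htP⟩ := mov_pair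
    have hle : (MulAction.orbit L (pt 1)).ncard ≤ 2 := by
      refine le_trans (Set.ncard_le_ncard (t := (({pt 1, pt 2} : Finset GolayPt) : Set GolayPt)) ?_
        (Finset.finite_toSet _)) (by rw [Set.ncard_coe_finset, hpair])
      rintro _ ⟨g, rfl⟩
      rw [Finset.mem_coe, ← hPfix g g.2]
      exact (mem_smul_iff _ _ _).2 (by simp)
    have hst : Nat.card (MulAction.stabilizer L (pt 1)) ≤ 960 := by
      have hin : ∀ g : MulAction.stabilizer L (pt 1),
          (g.1 : pG) ∈ fixers M24 [a0, pt 1, pt 2, pt 23] := by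
        intro g
        have hgH := (hLmem.1 g.1.2).1
        have hga := (hLmem.1 g.1.2).2
        have hg1 : (g.1 : pG) (pt 1) = pt 1 := g.2
        have key : ∀ {k : pG} {x y : GolayPt}, x ≠ y → k x = x →
            k • ({x, y} : Finset GolayPt) = {x, y} → k y = y := by
          intro k x y hxy hx hk
          have h := (mem_smul_iff k {x, y} y).2 (by simp)
          rw [hk] at h
          simp only [Finset.mem_insert, Finset.mem_singleton] at h
          rcases h with h | h
          · exact absurd (k.injective (h.trans hx.symm)) hxy.symm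
          · exact h
        have hg2 := key (by decide +kernel) hg1 (hPfix _ g.1.2)
        have hconj : t⁻¹ * (g.1 : pG) * t ∈ L := hLmem.2
          ⟨H.mul_mem (H.mul_mem (H.inv_mem (hT ht)) hgH) (hT ht), by
            rw [Equiv.Perm.mul_apply, Equiv.Perm.mul_apply, hta, hg1, ← hta,
              Equiv.Perm.inv_def, Equiv.symm_apply_apply]⟩
        have h023 : (g.1 : pG) • ({pt 0, pt 23} : Finset GolayPt) = {pt 0, pt 23} := by
          have h := hPfix _ hconj
          rw [mul_smul, mul_smul, inv_smul_eq_iff, htP] at h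
          exact h
        have hg23 := key (by decide +kernel) hga h023
        refine ⟨hH hgH, fun w hw => ?_⟩
        simp only [List.mem_cons, List.not_mem_nil, or_false] at hw
        rcases hw with rfl | rfl | rfl | rfl
        · exact hga
        · exact hg1
        · exact hg2
        · exact hg23
      have h := Nat.card_le_card_of_injective (fun g => (⟨_, hin g⟩ : fixers M24 [a0, pt 1, pt 2, pt 23]))
        fun g g' h => Subtype.ext (Subtype.ext (congrArg (fun w => w.1) h :))
      rwa [card_fixers hnd4 (by simp)] at h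
    have hmul := Subgroup.index_mul_card (MulAction.stabilizer L (pt 1))
    rw [MulAction.index_stabilizer] at hmul
    have : Nat.card L ≤ 2 * 960 := hmul ▸ Nat.mul_le_mul hle hst
    omega

end Cfsg.Agent.GroupStructure3.MathieuIndex
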